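import Cfsg.Agent.HeU.Main

/-! Recognition of the Held group from the centraliser `2^{1+6}.L₃(2)`, 29 conjugates in `Q` and a non-conjugate involution in
`Q ∩ Q^d` (`isoHe`). -/

set_option autoImplicit false
set_option maxRecDepth 100000
set_option linter.unusedSectionVars false

namespace Cfsg.Agent.MonHe

open Cfsg.Agent.Comp Cfsg.Agent.Spor Cfsg.Agent.BG HeR HeU

variable {G : Type*} [Group G] [Finite G] {t : G} {f : ℕ → G}

theorem bad_le (ht : orderOf t = 2) (h : Bad (⟨t, Subgroup.mem_centralizer_singleton_iff.2 rfl⟩ : C1[t])) :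
    {y : C1[t] | IsConj t y.1}.ncard ≤ 15 := by
  obtain ⟨Y, hY, tY, cY, h⟩ := h
  have t2 : t * t = 1 := Invol.mul_self_of ht
  have mc : ∀ {x : G}, x ∈ C1[t] ↔ Commute x t := Subgroup.mem_centralizer_singleton_iff
  have inv : ∀ {x : C1[t]}, IsConj t x.1 → x * x = 1 ∧ x ≠ 1 := fun hx =>
    ⟨Subtype.ext (Invol.mul_self_of (Invol.orderOf_of_isConj hx ▸ ht)), fun e => Invol.ne_one_of (Invol.orderOf_of_isConj hx ▸ ht)
      (congrArg Subtype.val e)⟩
  have cv : ∀ {x y : C1[t]}, IsConj x y → IsConj x.1 y.1 := (Subgroup.subtype _).map_isConj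
  have key : ∀ x : C1[t], IsConj t x.1 → x.1 ≠ t → x ∈ Y := fun x hx xt => by
    refine (h x (inv hx).1 (inv hx).2 fun e => xt (congrArg Subtype.val e)).2.resolve_right ?_
    rintro ⟨y, yx, hlt⟩
    have ty := hx.trans (cv yx).symm
    have yt : y.1 ≠ t := fun e => by
      obtain ⟨c, rfl⟩ := isConj_iff.1 yx
      exact xt (by simp [e, (mc.1 c.2).eq])
    obtain ⟨g, e⟩ := isConj_iff.1 ty
    have h1 : g⁻¹ * t * g ∈ C1[t] := mc.2 (by simpa [← e, mul_assoc] using ((mc.1 y.2).symm.conj g⁻¹))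
    have h2 : IsConj t (g⁻¹ * t * g) := isConj_iff.2 ⟨g⁻¹, by rw [inv_inv]⟩
    obtain ⟨c, e1⟩ := isConj_iff.1 (h ⟨_, h1⟩ (inv h2).1 (inv h2).2 fun e1 => yt (by
      have e2 : g⁻¹ * t * g = t := congrArg Subtype.val e1
      rw [← e]; nth_rw 1 [← e2]; group)).1
    replace e1 : c * (g⁻¹ * t * g) * c.1⁻¹ = g⁻¹ * t * g * t := congrArg Subtype.val e1
    obtain ⟨q, e2⟩ := isConj_iff.1 (h y (inv ty).1 (inv ty).2 fun e => yt (congrArg Subtype.val e)).1
    have k1 : g * c * g⁻¹ * t * (g * c * g⁻¹)⁻¹ = y * t := by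
      rw [(mc.1 y.2).eq, ← e]
      calc _ = g * (c * (g⁻¹ * t * g) * c.1⁻¹) * g⁻¹ := by group
        _ = _ := by rw [e1]; group
    have k2 : g * c * g⁻¹ * y * (g * c * g⁻¹)⁻¹ = y := by
      rw [← e]
      calc _ = g * (c * t * c.1⁻¹) * g⁻¹ := by group
        _ = _ := by rw [(mc.1 c.2).eq, mul_inv_cancel_right]
    generalize g * c * g⁻¹ = k at k1 k2
    have k3 : k * (y * t) * k⁻¹ = t := by
      rw [← conj_mul, k1, k2, ← mul_assoc, ← Subgroup.coe_mul, (inv ty).1]; simp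
    have n1 : {c : C1[t] | c * c = ⟨t, mc.2 rfl⟩ ∧ Commute c y}.ncard ≤ {c : C1[t] | c * c = y * ⟨t, mc.2 rfl⟩}.ncard := by
      rw [← Set.ncard_image_of_injective (f := fun c : C1[t] => k * c * k⁻¹) _ fun a b e => Subtype.ext (by simpa using e),
        ← Set.ncard_image_of_injective _ Subtype.val_injective]
      refine Set.ncard_le_ncard ?_
      rintro _ ⟨c, ⟨c1, c2⟩, rfl⟩
      have c3 : Commute c.1 y.1 := congrArg Subtype.val c2
      refine ⟨⟨_, mc.2 (by nth_rw 2 [← k3]; exact (c3.mul_right (mc.1 c.2)).conj k)⟩, Subtype.ext ?_, rfl⟩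
      show k * c * k⁻¹ * (k * c * k⁻¹) = y * t
      rw [conj_mul, ← Subgroup.coe_mul, c1, k1]
    have n2 : {c : C1[t] | c * c = y * ⟨t, mc.2 rfl⟩}.ncard ≤ {c : C1[t] | c * c = y}.ncard :=
      Set.ncard_le_ncard_of_injOn (fun c => q⁻¹ * c * q) (fun c hc => by
        rw [Set.mem_ofPred_eq] at hc ⊢
        calc _ = q⁻¹ * (c * c) * q := by group
          _ = _ := by rw [hc, ← e2]; group) fun a _ b _ e => by simpa using e
    rw [Set.ofPred_or, Set.ncard_union_eq (Set.disjoint_left.2 fun c c1 c2 => Invol.ne_one_of ht (by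
      simpa [Subtype.ext_iff] using c1.symm.trans c2))] at hlt
    omega
  rw [show 15 = 14 + 1 from rfl, ← hY, ← Set.ncard_insert_of_notMem tY]
  exact Set.ncard_le_ncard fun y hy => or_iff_not_imp_left.2 fun e => key y hy fun e1 => e (Subtype.ext e1)

def LQ : List ℕ := mapL (HeR.lin BQ) (List.range 128)

/-- the hypotheses on `R = O₂(C(z))`. -/
structure HR (z : G) (R : Set G) : Prop where
  cz : ∀ x ∈ R, Commute x z
  p4 : ∀ x ∈ R, ∀ y, Commute y z → (x * (y * x * y⁻¹)) ^ 4 = 1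
  card : R.ncard = 128
  P : ∀ d, d * z * d⁻¹ ∈ R → d * z * d⁻¹ ≠ z → ∃ t ∈ R, d⁻¹ * t * d ∈ R ∧ t * t = 1 ∧ ¬ IsConj z t ∧ t ≠ 1

theorem mem_LQ (h : St f) {R : Set G} (H : HR (f z) R) {n : ℕ} (hn : V n) : f n ∈ R ↔ n ∈ LQ := by
  have k : ∀ n, V n → f n ∈ R → n ∈ LQ := fun n hn hR => by
    have s : forceL LQ (fun L => scanH fun n => imp (Comp.allL [1379, 12886, 16690, 25955, 21331] fun w =>
        force (mul n (cjw (dw w) n)) fun y => force (mul y y) fun y => Nat.beq (mul y y) one) (memL n L)) = true := by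
      decide +kernel
    rw [forceL_eq] at s
    refine memL_iff.1 (imp_iff.1 (scan s hn) (Comp.allL_iff.2 fun w _ => ?_))
    have v := hn.mul (V_cjw (dw w) hn)
    rw [force_eq, force_eq, nbeq, ← h.eq_one ((v.mul v).mul (v.mul v)), h.mul (v.mul v) (v.mul v), h.mul v v,
      h.mul hn (V_cjw _ hn), h.cjw _ hn, ← H.p4 _ hR _ (h.comm_z (V_evc (dw w)))]
    simp only [pow_succ, pow_zero, one_mul, mul_assoc]
  have vq : ∀ n ∈ LQ, V n := fun n hn => by
    rw [LQ, mapL_eq, List.mem_map] at hn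
    obtain ⟨q, -, rfl⟩ := hn
    exact (gen_lin gen_BQ q).V
  have e : R = f '' {n | n ∈ LQ} := Set.eq_of_subset_of_ncard_le (fun x hx => by
    obtain ⟨n, hn, rfl⟩ := h.surj x (H.cz x hx)
    exact ⟨n, k n hn hx, rfl⟩) ((Set.ncard_image_le (List.finite_toSet _)).trans (by
      rw [H.card, ← List.coe_toFinset, Set.ncard_coe_finset]
      exact (List.toFinset_card_le _).trans (by simp [LQ, mapL_eq])))
  exact ⟨k n hn, fun m => e ▸ ⟨n, m, rfl⟩⟩

theorem ta_one (h : St f) {R : Set G} (H : HR (f z) R) (hu : Fu f u) : ∃ a, A1 f a 1 := by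
  obtain ⟨a, ta, h2, Ha⟩ := h.exists_a hu
  interval_cases ta
  swap
  · exact ⟨a, Ha⟩
  exfalso
  obtain ⟨e1, e2⟩ := A1.swap Ha h2
  obtain ⟨t, h3, h5, h6, h7, h8⟩ := H.P a (e1 ▸ (mem_LQ h H V_u).2 (memL_iff.1 (by decide +kernel)))
    (e1 ▸ fun e => absurd (h.inj V_u V_z e) (by decide))
  have h4 : a * t * a⁻¹ ∈ R := by rwa [Ha.1.inv] at h5 ⊢
  obtain ⟨n, hn, rfl⟩ := h.surj t (H.cz t h3)
  have s : forceL LQ (fun L => Comp.allL L fun n => imp (Nat.beq (mul n n) one) (imp (cm n u) (band (okC n)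
      (imp (memL (al 0 n) L) (bor (Nat.beq n one) (bor (Nat.beq n z) (anyL [0, 1, 5, 81, 37, 101, 593, 1617, 1573, 869, 25169, 13905, 13861, 221777] fun w => Nat.beq n (cjw (dw w) u)))))))) = true := by
    decide +kernel
  simp only [forceL_eq, Comp.allL_iff, imp_iff, nbeq, band_eq, Bool.and_eq_true, memL_iff, bor_eq, Bool.or_eq_true, anyL_iff] at s
  obtain ⟨s1, s2⟩ := s n ((mem_LQ h H hn).1 h3) ((h.sq hn).1 h6) ((h.cm hn V_u).2 (by
    have := (H.cz _ h5).conj a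
    rwa [e1, show a * (a⁻¹ * f n * a) * a⁻¹ = f n by group] at this))
  have m := Ha.1.act n s1
  rcases s2 ((mem_LQ h H m.2.1).1 (m.2.2 ▸ h4)) with rfl | rfl | ⟨w, -, e⟩
  exacts [h8 h.one, h7 (IsConj.refl _), h7 (e ▸ (h.fu_cjw _ V_u).2 hu)]

theorem he_of (h : St f) {R : Set G} (H : HR (f z) R) (hn : ¬ IsIsolatedInvolution (f z)) : Nonempty (G ≃* Cfsg.Spor.He) := by
  have H' : HR (tw f z) R := h.tw_z ▸ H
  have k : ∀ {f : ℕ → G}, St f → ∀ {a}, A1 f a 1 → Fu f (rp 0) := fun h a Ha => by_contra fun n =>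
    absurd (A1.zero h (by decide) Ha n) (by decide)
  obtain ⟨h1, h0⟩ : Fu f u ∧ Fu f (rp 0) := by
    by_cases h1 : Fu f u
    · exact ⟨h1, k h (ta_one h H h1).choose_spec⟩
    · have h0 : Fu f (rp 0) := by_contra fun h0 => hn (h.isolated h0 h1)
      exact ⟨h.tw_0.1 (k h.tw (ta_one h.tw H' (h.tw_u.2 h0)).choose_spec), h0⟩
  obtain ⟨a, Ha⟩ := ta_one h H h1
  obtain ⟨d, Hd⟩ := ta_one h.tw H' (h.tw_u.2 h0)
  obtain ⟨a', H⟩ := h.exists_ty (by decide) (by decide) Ha Hd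
  exact Pres.he ⟨by decide, h, h1, a', d, h.rels_e H, H.top h (by decide)⟩

theorem isoHe (ht : orderOf t = 2) (Q : Subgroup C1[t]) [Q.Normal] (hQ : IsExtraspecial 2 Q)
    (hcard : Nat.card Q = 2 ^ 7) (h2c : C[Q] ≤ Q) (e : C1[t] ⧸ Q ≃* SL3)
    (h29 : 15 < {x : C1[t] | x ∈ Q ∧ IsConj t x.1}.ncard) (H : HR t (Q.map C1[t].subtype)) (hn : ¬ IsIsolatedInvolution t) :
    Nonempty (G ≃* Cfsg.Spor.He) := by
  obtain ⟨hc, ⟨φ, hφ⟩ | h⟩ := good_or_bad Q hQ hcard h2c e (t := ⟨t, Subgroup.mem_centralizer_singleton_iff.2 rfl⟩)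
    (Subgroup.mem_center_iff.2 fun x => Subtype.ext (Subgroup.mem_centralizer_singleton_iff.1 x.2))
    fun e => Invol.ne_one_of ht (congrArg Subtype.val e)
  · have hz : (φ.symm (Cb.F z)).1 = t := by rw [φ.symm_apply_eq.2 (Subtype.ext hφ.symm)]
    have h : St fun n => (φ.symm (Cb.F n)).1 := ⟨fun a b => by rw [show Cb.F (mul _ _) = _ from Cb.fmul a b, map_mul]; rfl,
      fun a b e => Cb.inj a b (φ.symm.injective (Subtype.ext e)), fun g hg => by
        rw [hz] at hg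
        obtain ⟨n, hn, e⟩ := st_toSL.surj _ (Subgroup.mem_centralizer_singleton_iff.1
          (φ ⟨g, Subgroup.mem_centralizer_singleton_iff.2 hg⟩).2)
        exact ⟨n, hn, by rw [φ.symm_apply_eq.2 (Subtype.ext e.symm)]⟩⟩
    exact he_of h (R := Q.map C1[t].subtype) (by rwa [hz]) (by rwa [hz])
  · exact absurd ((Set.ncard_le_ncard fun y hy => hy.2).trans (bad_le ht h)) h29.not_ge

end Cfsg.Agent.MonHe
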