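import Cfsg.Agent.MonHe.A
import Cfsg.Agent.Mon.T7
import Cfsg.Agent.Mon.Baby
import Cfsg.Agent.GW.D8A6
import Cfsg.Agent.S1265
import Cfsg.Agent.Sig.Comp

/-! The `7`-local subgroup `(7:3 × He):2` of a group of Monster type. -/

set_option autoImplicit false
set_option maxRecDepth 100000
set_option exponentiation.threshold 100000
set_option linter.unusedSectionVars false

namespace Cfsg.Agent.MonHe

open Subgroup Cfsg.Agent.BG Cfsg.Agent.Invol Cfsg.Agent.LES Cfsg.Agent.Leech Cfsg.Agent.Golay Cfsg.Agent.Comp Cfsg.Agent.Mon MulAction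

def cv : ℕ := 0x50281408040201008040201408040201008040281408050281008
def cy : ℕ := 0x20101008040201008040201008040201008040201008040201008
def ck : ℕ := nat_lit 0x4020100803020100603010100604018100a03020100a06020100804020100403020100603020100a04028100605010100a04020100804020100805020080a03020100a04028100a03020100a04030100804020180805020100605020100a04018180603020100a04020100805028140a040180c08040181408030200c0804018140803018140a04010100805010100a03020100604018100605020100a040201008050180c06040280c08040180c0805020140804028140803018140a030281406040181408040180c08050200c08040281408030280c0a04020100805020100603020100604028100603020080604020100c04020100805020100603020100604028100603020180604020100404020100805020180a03020100a04028100a03020100a04010100804020100803020100a05020080602028100603020100a04020100804020100803020100a05020180606028100603020100a040201008030280c06040180c08040281408030201408040281408050180c0a050280c0a04018140804028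0c0805020140804018140805028140a04020100803020100603030100604018100a03020100a02020100804020100c03020100603020100a04028100605030100a040201008050181406040281408040281408030200c0804028140805028140a030180c0a040281408040181408030201408040181408030280c0a03018140a040280c08040280c08050200c08040181408050180c0a04020080805020100605020100a04018080603020100a04020100802020100805020100605020100604028100a05020100a04020180806020100805020100605020100604028100a05020100a04020080804030100805030100a03020100604018100605020100a040201008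
noncomputable def v0 : LL := vec cv (by decide +kernel)
noncomputable def y0 : LL := vec cy (by decide +kernel)
theorem py : PV cy y0 := PV_vec _ _
theorem nm_y0 : nm y0 = 32 := show sqNorm (ofCode cy) = 32 by decide +kernel
theorem sg_v0 : sg _ oc1 • v0 - v0 = y0 := Subtype.ext (show (fun i => (if i ∈ EG.ofMask 13062145 then -ofCode cv i
  else ofCode cv i) - ofCode cv i) = ofCode cy by decide +kernel)
theorem fix_y0 : pm T7.y7 • y0 = y0 := T7.rb.smul_eq py py (by decide +kernel)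
theorem hD : EG.ofMask 11858880 ∈ GSupp := (ofMask_mem_supports_iff (by norm_num)).2 (by decide +kernel)
theorem sgD_y0 : ¬ Cg (sg _ hD • y0) y0 := fun e => absurd ((Keyed.smul_eq_iff (C := keyQ) (RC_sgC hD) ⟨_, py, rfl⟩
  ⟨_, py, rfl⟩).1 (cl_eq.2 e)) (by decide +kernel)
noncomputable def k0 : CG := eltC ck (by decide +kernel)
theorem k0_inv : k0 * sg _ hD * k0⁻¹ * pm T7.y7 * (k0 * sg _ hD * k0⁻¹)⁻¹ = (pm T7.y7)⁻¹ :=
  canC.func (grpC.conj (grpC.conj (RC_eltC ck _) (RC_sgC hD)) T7.rb)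
    ((by decide +kernel : conjC mulC invC (conjC mulC invC ck (sgC 11858880)) (pmC T7.c7) = invC (pmC T7.c7)) ▸ grpC.inv T7.rb)

theorem ex_cm (c : ℕ) (h : (inM24 c && Nat.blt c (2 ^ (5 * 24))) = true) : ∃ g : MG, CM c g := by
  rw [Bool.and_eq_true] at h
  exact ⟨elt c h.1, elt_rep _ _, nblt.1 h.2⟩

theorem ex_γ : ∃ γ : MG, γ * T7.y7 * γ⁻¹ = T7.y7 * T7.y7 :=
  let ⟨γ, h⟩ := ex_cm 984237141328177600450807828190413984 (by decide +kernel)
  ⟨γ, canCM.func (grpCM.conj h T7.rep) ((by decide +kernel : conjC mul24 inv24 984237141328177600450807828190413984 T7.c7 =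
    mul24 T7.c7 T7.c7) ▸ grpCM.mul T7.rep T7.rep)⟩

theorem not_inv (g : MG) : g * T7.y7 * g⁻¹ ≠ T7.y7⁻¹ := fun e => by
  have k : ∀ c p, p.Prime → (inM24 c && Nat.blt c (2 ^ (5 * 24))) = true → orderC mul24 one24 c p [p] = true →
      commC mul24 c T7.c7 = true → p ∣ #C1[T7.y7] := fun c p hp h1 h2 h3 => by
    obtain ⟨x, hx⟩ := ex_cm c h1
    rw [← orderOf_prime_CM hx hp h2]
    exact orderOf_dvd_cardG (mem_cent1.2 ((commC_iff grpCM canCM hx T7.rep).2 h3))
  have h2 := k 971592882964418941354553515258775584 2 (by norm_num) (by decide +kernel) (by decide +kernel) (by decide +kernel)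
  have h3 := k 930051954302597800996649171770619396 3 (by norm_num) (by decide +kernel) (by decide +kernel) (by decide +kernel)
  have h7 := k T7.c7 7 (by norm_num) (by decide +kernel) (by decide +kernel) (by decide +kernel)
  have h := eq_of_card_le (le_Ext T7.y7) (T7.card_C.trans (Nat.le_of_dvd Nat.card_pos (by omega)))
  have m : g ∈ C1[T7.y7] := h ▸ mem_Ext.2 (Or.inr e)
  exact T7.ne_inv (by rw [← e, mem_cent1.1 m, mul_inv_cancel_right])

variable {G : Type*} [Group G] [Finite G] {Q T : Subgroup G} {z s β γ c : G} {π : C1[z] →* Spor.Co1} {P : G → LL → Prop}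

theorem ex_y0 (H : MT Q z π P) (h : Pair Q T z s) (hs : P s (e8 none)) : ∃ a ∈ Q ⊓ T, P a y0 := by
  obtain ⟨c, hc, e⟩ := mem_NS.1 ((H.NS_e8 h hs).ge (⟨_, oc1, rfl⟩ : sg _ oc1 ∈ SG))
  obtain ⟨q, hq⟩ := H.exq v0
  exact ⟨_, comm_mem h hc e.cz (H.PQ hq) ((H.comm_iff hq hs).2 (show 16 ∣ dotInt (ofCode cv) (e8 none : LL) by decide +kernel)),
    sg_v0 ▸ H.cong (H.mul (H.cj e hq) (H.inv hq)) (cg_sub _ _).symm⟩

theorem ex_fix (H : MT Q z π P) (h : Pair Q T z s) (hβ : β ∈ centralizer ({z, s} : Set G)) (ho : orderOf β = 7) :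
    ∃ a ∈ Q ⊓ T, Commute β a ∧ a * a = 1 ∧ a ≠ 1 ∧ ¬ IsConj z a := by
  obtain ⟨x, e, -⟩ := h.tr
  obtain ⟨π, P, H, hs⟩ := H.norm8 h.sQ (isConj_iff.2 ⟨x, e⟩) h.ne
  obtain ⟨π', P', σ, H', hs', h1, h2, -⟩ := H.norm_p hs hβ (by norm_num) (by decide) ho (S := zpowers T7.y7) (n := 1)
    (by rw [Nat.card_zpowers, T7.ord, pow_one]) (by norm_num)
  obtain ⟨a, ha, hy⟩ := ex_y0 H' h hs'
  refine ⟨a, ha, (H'.comm_fix h1 (ho ▸ by decide) hy).2 ?_, H'.sq32 hy nm_y0, (H'.ne_of hy (Or.inl nm_y0)).1,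
    H'.not_conj32 hy nm_y0⟩
  have : zpowers T7.y7 ≤ (stabilizer CG y0).comap pm := zpowers_le.2 fix_y0
  rw [show pm σ • y0 = y0 from this h2]; exact Cg.refl _

theorem eq_odd (hQ : ES Q z) (oβ : Odd (orderOf β)) {x q : G} (hx : x * x = 1) (hq : q ∈ Q ⊓ C[zpowers β])
    (m : x⁻¹ * q ∈ zpowers β) : x = q := by
  obtain ⟨τ, hτ⟩ : ∃ τ, τ = x⁻¹ * q := ⟨_, rfl⟩
  rw [← hτ] at m
  have e2 : x = q * τ⁻¹ := by rw [hτ]; group
  have c : Commute q τ := (mem_cent.1 hq.2 τ m).symm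
  have e3 : q * q = τ * τ := by rwa [e2, c.inv_right.symm.mul_mul_mul_comm, ← mul_inv_rev, mul_inv_eq_one] at hx
  have t1 : τ = 1 := eq_one_of_odd oβ m (n := 1) (by
    rw [pow_one, pow_two]; exact inf_odd hQ.pg oβ (mul_mem m m) (e3 ▸ mul_mem hq.1 hq.1))
  rw [e2, t1, inv_one, mul_one]

theorem hr (H : MT Q z π P) (ho : orderOf β = 7) [((zpowers β).subgroupOf C[zpowers β]).Normal] (zD : z ∈ C[zpowers β])
    (hs : IsExtraspecialCentralizerSetting (zb C[zpowers β] (zpowers β) zD) (Rb C[zpowers β] (zpowers β) zD Q) 3) :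
    HR (zb C[zpowers β] (zpowers β) zD) ((Rb C[zpowers β] (zpowers β) zD Q).map (Subgroup.subtype _)) := by
  obtain ⟨L, hc⟩ := setting_LE hs
  have oβ : Odd (orderOf β) := ho ▸ by decide
  have zz : ∀ d : G, d * z * d⁻¹ * (d * z * d⁻¹) = 1 := fun d => by rw [conj_mul, H.es.zz]; simp
  have mem : ∀ a (ha : a ∈ Q ⊓ C[zpowers β]), (QuotientGroup.mk ⟨a, ha.2⟩ : C[zpowers β] ⧸ (zpowers β).subgroupOf _) ∈
      (Rb C[zpowers β] (zpowers β) zD Q).map (Subgroup.subtype _) := fun a ha =>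
    ⟨th _ _ zD ⟨a, le_M H.es ha⟩, ⟨_, ha, rfl⟩, rfl⟩
  refine ⟨fun x hx => L.toES.zc x hx, fun x hx y hy => ?_, hc, fun d h1 h2 => ?_⟩
  · rw [show 4 = 2 * 2 from rfl, pow_mul, pow_two, pow_two]
    rcases L.toES.sq _ (mul_mem hx (L.conj_mem hy hx)) with e | e <;> rw [e]
    exacts [one_mul _, L.toES.zz]
  · obtain ⟨d, rfl⟩ := QuotientGroup.mk_surjective d
    obtain ⟨_, ⟨q, hq, rfl⟩, e⟩ := h1
    have e0 : (QuotientGroup.mk (d * ⟨z, zD⟩ * d⁻¹) : C[zpowers β] ⧸ (zpowers β).subgroupOf _) = QuotientGroup.mk ⟨q, q.2.1⟩ :=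
      e.symm
    have e' : d.1 * z * d.1⁻¹ = q.1 := eq_odd H.es oβ (zz _) hq (mem_subgroupOf.1 (QuotientGroup.eq.1 e0))
    have hne : d.1 * z * d.1⁻¹ ≠ z := fun k => h2 (congrArg QuotientGroup.mk (Subtype.ext k : d * ⟨z, zD⟩ * d⁻¹ = ⟨z, zD⟩))
    obtain ⟨a, ha, c, a2, a1, na⟩ := ex_fix H (H.pair (e' ▸ hq.1) hne) (mem_C2.2 ⟨mem_CB.1 zD, mem_CB.1 (e' ▸ hq.2)⟩) ho
    have m1 : a ∈ Q ⊓ C[zpowers β] := ⟨ha.1, mem_CB.2 c⟩
    refine ⟨_, mem a m1, mem (d.1⁻¹ * a * d.1) ⟨mem_cj.1 ha.2, (d⁻¹ * ⟨a, m1.2⟩ * d).2⟩,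
      congrArg QuotientGroup.mk (Subtype.ext a2 : (⟨a, m1.2⟩ * ⟨a, m1.2⟩ : C[zpowers β]) = 1), fun k => na ?_,
      fun k => a1 (inf_odd H.es.pg oβ (mem_subgroupOf.1 ((QuotientGroup.eq_one_iff _).1 k)) ha.1)⟩
    obtain ⟨g, e⟩ := isConj_iff.1 k
    obtain ⟨g, rfl⟩ := QuotientGroup.mk_surjective g
    have e0 : (QuotientGroup.mk (g * ⟨z, zD⟩ * g⁻¹) : C[zpowers β] ⧸ (zpowers β).subgroupOf _) = QuotientGroup.mk ⟨a, m1.2⟩ := e
    exact isConj_iff.2 ⟨g.1, eq_odd H.es oβ (zz _) m1 (mem_subgroupOf.1 (QuotientGroup.eq.1 e0))⟩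

theorem he (H : MT Q z π P) (h1 : Rl π β (pm T7.y7)) (ho : orderOf β = 7) [((zpowers β).subgroupOf C[zpowers β]).Normal]
    (hs : s ∈ Q) (hc : IsConj z s) (hne : s ≠ z) (βs : Commute β s) :
    Nonempty (C[zpowers β] ⧸ (zpowers β).subgroupOf C[zpowers β] ≃* Spor.He) := by
  obtain ⟨f, h3, h4⟩ := T7.hom
  obtain ⟨g, h5, h6⟩ := T7.ex_g0
  have := GW.isSimpleGroup_SL3_two
  obtain ⟨zD, _, h, ⟨e⟩⟩ := H.odd h1 (by norm_num) (by decide) ho
    (by rw [← map_pow, ← T7.ord, pow_orderOf_eq_one, map_one]) T7.inj T7.dual (n := 3) rfl (by decide) f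
    h3 h4 g (fun K hK h => (hK.eq_bot_or_eq_top.resolve_left h) ▸ trivial) (pow_ne h4 h6 (by decide) h5) h6 hs hc hne βs
  refine isoHe h.1 _ h.2.2.1 h.2.2.2.1 (by rw [← h.2.1]; exact S1265.result) e
    (by rw [H.count h1 (by norm_num) (by decide) ho, T7.frames]; norm_num) (hr H ho zD h) fun k => ?_
  obtain ⟨g, ⟨h7, -⟩, h8⟩ := h.2.2.2.2
  exact h8 (k.2 g (mem_cent1.1 h7).symm)

end Cfsg.Agent.MonHe
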