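import Cfsg.Agent.MonHe.B

/-! The normaliser of the `7`-element with centraliser `7 × He` in a group of Monster type. -/

set_option autoImplicit false
set_option linter.unusedSectionVars false

namespace Cfsg.Agent.MonHe

open Subgroup Cfsg.Agent.BG Cfsg.Agent.Invol Cfsg.Agent.LES Cfsg.Agent.Leech Cfsg.Agent.Golay Cfsg.Agent.Comp Cfsg.Agent.Mon MulAction

variable {G : Type*} [Group G] [Finite G] {Q T : Subgroup G} {z s β γ c t : G} {π : C1[z] →* Spor.Co1} {P : G → LL → Prop}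
  {b b' g : CG}

theorem fix_coset2 {R : Subgroup G} {p : ℕ} (hR : IsPGroup 2 R) (hβ : β ∈ N[R]) (hp : p.Prime) (p2 : p ≠ 2) (ho : β ^ p = 1)
    (hγ : γ ^ p = 1) (hx : c⁻¹ * (γ * c * β⁻¹) ∈ R) : ∃ r ∈ R, c * r * β * (c * r)⁻¹ = γ := by
  have : Fact p.Prime := ⟨hp⟩
  have : Fact (Nat.Prime 2) := ⟨Nat.prime_two⟩
  let Φ : G × G →* Equiv.Perm G := MonoidHom.mk' (fun a => (Equiv.mulLeft a.1).trans (Equiv.mulRight a.2⁻¹))
    fun a b => Equiv.ext fun y => by simp [mul_assoc]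
  have h : ∀ y, c⁻¹ * Φ (γ, β) y ∈ R ↔ c⁻¹ * y ∈ R := fun y => by
    rw [← conj_mem_iff_of_norm (x := c⁻¹ * y) hβ, ← mul_mem_cancel_left (y := β * (c⁻¹ * y) * β⁻¹) hx]
    simp [Φ, mul_assoc]
  let := Fintype.ofFinite {y : G // c⁻¹ * y ∈ R}
  obtain ⟨y, hy⟩ := Equiv.Perm.exists_fixed_point_of_prime (p := p) (n := 1)
    (σ := Equiv.Perm.subtypePerm (p := fun y => c⁻¹ * y ∈ R) (Φ (γ, β)) h) (by
      obtain ⟨n, hn⟩ := IsPGroup.iff_card.1 hR
      rw [← Nat.card_eq_fintype_card, Nat.card_congr ((Equiv.mulLeft c⁻¹).subtypeEquiv (p := fun y => c⁻¹ * y ∈ R)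
        (q := (· ∈ R)) fun _ => Iff.rfl)]
      exact fun e => p2 ((Nat.prime_dvd_prime_iff_eq hp Nat.prime_two).1 (hp.dvd_of_dvd_pow (hn ▸ e)))) (by
      rw [pow_one, Equiv.Perm.subtypePerm_pow]
      ext y
      have : Φ (γ, β) ^ p = 1 := by rw [← map_pow, Prod.pow_mk, ho, hγ]; exact map_one Φ
      exact congrArg (fun f : Equiv.Perm G => f y.1) this)
  have e : γ * y.1 * β⁻¹ = y.1 := congrArg Subtype.val hy
  exact ⟨_, y.2, by rw [mul_inv_cancel_left, mul_inv_eq_iff_eq_mul, ← mul_inv_eq_iff_eq_mul.1 e]⟩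

theorem lift_conj (H : MT Q z π P) (hβ : Rl π β b) (hγ : Rl π γ b') (ho : β ^ 7 = 1) (ho' : γ ^ 7 = 1) (hc : Rl π c g)
    (e : g * b * g⁻¹ = b') : ∃ n, n * β * n⁻¹ = γ :=
  let ⟨_, _, h⟩ := fix_coset2 H.es.pg (H.le.nQ β hβ.cz) (by norm_num) (by decide) ho ho' (c := c)
    ((H.mem_iff (hc.inv.mul ((hγ.mul hc).mul hβ.inv))).2 (Or.inl (by rw [← e]; group)))
  ⟨_, h⟩

theorem b7 : pm T7.y7 ^ 7 = 1 := by rw [← map_pow, ← T7.ord, pow_orderOf_eq_one, map_one]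

theorem ex_three (H : MT Q z π P) (hβ : Rl π β (pm T7.y7)) (ho : orderOf β = 7) : ∃ n, n * β * n⁻¹ = β * β := by
  obtain ⟨γ, e⟩ := ex_γ
  obtain ⟨c, hc⟩ := H.lift (pm γ)
  have h7 : β ^ 7 = 1 := ho ▸ pow_orderOf_eq_one β
  exact lift_conj H hβ (hβ.mul hβ) h7 (by rw [← pow_two, ← pow_mul, mul_comm, pow_mul, h7, one_pow]) hc
    (by rw [← map_inv, ← map_mul, ← map_mul, e, map_mul])

theorem ex_inv (H : MT Q z π P) (hβ : Rl π β (pm T7.y7)) (ho : orderOf β = 7) : ∃ t, t * t = 1 ∧ t * β * t⁻¹ = β⁻¹ := by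
  obtain ⟨s, hs⟩ := H.exq (e8 none)
  obtain ⟨hc, hne⟩ := H.conj64 hs (sqNorm_e8 _)
  obtain ⟨x, rfl⟩ := isConj_iff.1 hc
  have h := H.pair (H.PQ hs) hne
  obtain ⟨c, hc, e⟩ := mem_NS.1 ((H.NS_e8 h hs).ge (⟨_, hD, rfl⟩ : sg _ hD ∈ SG))
  obtain ⟨a, ha, hy⟩ := ex_y0 H h hs
  have n : ¬ Commute c a := fun k => sgD_y0 (H.stab' hy e k)
  obtain ⟨c, e, c2⟩ : ∃ c, Rl π c (sg _ hD) ∧ c * c = 1 := by
    by_cases c2 : c * c = 1
    · exact ⟨c, e, c2⟩
    · refine ⟨c * a, by simpa using e.mul (H.Rl_Q ha.1), ?_⟩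
      rw [sq_mul h.hP.toES hc ha.2] at n
      by_contra k
      exact n (by simp [k, c2, H.sq32 hy nm_y0])
  obtain ⟨l, hl⟩ := H.lift k0
  have e1 := (hl.mul e).mul hl.inv
  have c3 : l * c * l⁻¹ * (l * c * l⁻¹) = 1 := by rw [conj_mul, c2]; simp
  have e2 := ((e1.mul hβ).mul e1.inv).mul hβ.inv
  rw [k0_inv] at e2
  generalize l * c * l⁻¹ = t at c3 e2
  have e3 : t * (t * β * t⁻¹ * β⁻¹) * t⁻¹ = (t * β * t⁻¹ * β⁻¹)⁻¹ := by
    rw [← mul_assoc, ← mul_assoc, ← mul_assoc, c3, mul_inv_rev, mul_inv_rev, mul_inv_rev, inv_inv, inv_inv,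
      inv_eq_of_mul_eq_one_right c3]
    group
  generalize t * β * t⁻¹ * β⁻¹ = y at e2 e3
  have h7 : y ^ 7 ∈ Q := (H.mem_iff (e2.pow 7)).2 (Or.inl (by rw [← pow_two, ← pow_mul, mul_comm, pow_mul, inv_pow, b7]; simp))
  obtain ⟨r, e4⟩ := lift_conj H hβ.inv (e2.pow 4) (by rw [inv_pow, ← ho, pow_orderOf_eq_one, inv_one]) (by
      rw [← pow_mul, show 4 * 7 = 7 * 2 * 2 from rfl, pow_mul, pow_mul, pow_two, pow_two]
      rcases H.es.sq _ h7 with e | e <;> rw [e]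
      exacts [one_mul _, H.es.zz]) Rl.one (by
      rw [← pow_two, ← pow_mul, show 2 * 4 = 7 + 1 from rfl, pow_succ, inv_pow, b7]; simp)
  refine ⟨r⁻¹ * t * r, by rw [show r⁻¹ * t * r * (r⁻¹ * t * r) = r⁻¹ * (t * t) * r by group, c3]; simp, ?_⟩
  have e5 : t * (y ^ 4)⁻¹ * t⁻¹ = y ^ 4 := by rw [← conj_inv, ← conj_pow, e3, inv_pow, inv_inv]
  rw [← e4] at e5
  calc _ = r⁻¹ * (t * (r * β⁻¹ * r⁻¹)⁻¹ * t⁻¹) * r := by group
    _ = _ := by rw [e5]; group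

theorem mem_N {n : G} (h : n * β * n⁻¹ ∈ zpowers β) : n ∈ N[zpowers β] :=
  mem_norm_of_cj_le (by rw [cj_zpowers]; exact zpowers_le.2 h)

theorem index_six (ho : orderOf β = 7) {n : G} (ht : t * β * t⁻¹ = β⁻¹) (hn : n * β * n⁻¹ = β * β) :
    C[zpowers β].relIndex N[zpowers β] = 6 := by
  have e := (zpowers β).normalizerMonoidHom_ker
  have : (C[zpowers β].subgroupOf N[zpowers β]).Normal := e ▸ MonoidHom.normal_ker _
  have h1 : C[zpowers β].relIndex N[zpowers β] ∣ 6 := by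
    rw [relIndex, ← e, index_ker]
    refine (card_subgroup_dvd_card _).trans ?_
    rw [IsCyclic.card_mulAut, Nat.card_zpowers, ho]; decide
  have h2 : ∀ x ∈ N[zpowers β], Commute β (x ^ C[zpowers β].relIndex N[zpowers β]) := fun x hx =>
    mem_CB.1 (pow_index_mem (C[zpowers β].subgroupOf N[zpowers β]) ⟨x, hx⟩)
  have h3 := cj_eq_iff_comm.2 (h2 t (mem_N (ht ▸ inv_mem (mem_zpowers β)))).symm
  have h4 := cj_eq_iff_comm.2 (h2 n (mem_N (hn ▸ mul_mem (mem_zpowers β) (mem_zpowers β)))).symm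
  have k : ∀ m : ℕ, β ^ m = 1 → 7 ∣ m := fun m e => ho ▸ orderOf_dvd_of_pow_eq_one e
  have t1 : β⁻¹ ≠ β := fun e => absurd (k 2 (by rw [pow_two]; nth_rw 1 [← e]; simp)) (by decide)
  have h5 := Nat.le_of_dvd (by decide) h1
  generalize C[zpowers β].relIndex N[zpowers β] = m at *
  interval_cases m
  all_goals first | rfl | exact absurd h1 (by decide) | skip
  · exact absurd (by simpa [ht] using h3) t1
  · refine absurd (k 3 ?_) (by decide)
    rw [show n ^ 2 * β * (n ^ 2)⁻¹ = n * (n * β * n⁻¹) * n⁻¹ by rw [pow_two]; group, hn, ← conj_mul, hn] at h4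
    simpa [pow_succ, mul_assoc] using h4
  · rw [show t ^ 3 * β * (t ^ 3)⁻¹ = t * (t * (t * β * t⁻¹) * t⁻¹) * t⁻¹ by rw [pow_succ, pow_two]; group, ht, ← conj_inv, ht,
      inv_inv, ht] at h3
    exact absurd h3 t1

theorem mem_layer {X : Type*} [Group X] [Finite X] (Z : Subgroup X) [Z.Normal] (hZ : Z ≤ center X) (hs : IsSimpleGroup (X ⧸ Z))
    (hna : ¬ IsMulCommutative (X ⧸ Z)) (ho : Odd #Z) {x : X} {n : ℕ} (hx : x ^ 2 ^ n = 1) : x ∈ layer X := by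
  obtain rfl : Z = center X := le_antisymm hZ (by
    rcases hs.eq_bot_or_eq_top_of_normal _ ((inferInstance : (center X).Normal).map _ (QuotientGroup.mk'_surjective Z)) with e | e
    · rwa [Subgroup.map_eq_bot_iff, QuotientGroup.ker_mk'] at e
    · refine absurd ⟨⟨fun a b => ?_⟩⟩ hna
      obtain ⟨a, ha, rfl⟩ : a ∈ (center X).map (QuotientGroup.mk' Z) := e ▸ mem_top a
      obtain ⟨b, rfl⟩ := QuotientGroup.mk'_surjective Z b
      rw [← map_mul, ← map_mul, mem_center_iff.1 ha])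
  obtain ⟨h1, h2⟩ := Sig.commutator_sup_center_and_qs hs hna
  have l : commutator X ≤ layer X := le_sSup (show IsComponent _ from ⟨Normal.isSubnormal inferInstance, h2⟩)
  have m : x ∈ commutator X ⊔ center X := h1 ▸ mem_top x
  rw [← SetLike.mem_coe, mul_normal] at m
  obtain ⟨c, hc, b, hb, rfl⟩ := m
  have e : (c * b) ^ #(center X) ∈ layer X := by
    rw [Commute.mul_pow (mem_center_iff.1 hb c), orderOf_dvd_iff_pow_eq_one.1 (orderOf_dvd_cardG hb), mul_one]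
    exact pow_mem (l hc) _
  exact zpowers_le.2 e (mem_zpowers_pow_iff.2 (Nat.Coprime.coprime_dvd_right (orderOf_dvd_of_pow_eq_one hx)
    (Nat.Coprime.pow_right n ho.coprime_two_right)))

theorem outer (H : MT Q z π P) (h1 : Rl π β (pm T7.y7)) (ho : orderOf β = 7) (hs : s ∈ Q) (hc : IsConj z s) (hne : s ≠ z)
    (βs : Commute β s) (ht : t * β * t⁻¹ = β⁻¹) :
    ¬ ∃ l ∈ Sig.layerIn C[zpowers β], ∀ x ∈ Sig.layerIn C[zpowers β], t * x * t⁻¹ = l * x * l⁻¹ := by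
  rintro ⟨l, hl, h⟩
  have hZ : (zpowers β).subgroupOf C[zpowers β] ≤ center _ := fun x hx => mem_center_iff.2 fun y => Subtype.ext (y.2 _ hx).symm
  have : ((zpowers β).subgroupOf C[zpowers β]).Normal := ⟨fun x hx y => by rwa [mem_center_iff.1 (hZ hx), mul_inv_cancel_right]⟩
  obtain ⟨e⟩ := he H h1 ho hs hc hne βs
  have := S1695.result.1
  have k : ∀ q ∈ Q, Commute β q → Commute (l⁻¹ * t) q := fun q hq c => by
    obtain ⟨n, hn⟩ := H.es.pg ⟨q, hq⟩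
    have m : (⟨q, mem_CB.2 c⟩ : C[zpowers β]) ∈ layer _ := mem_layer _ hZ e.isSimpleGroup (fun k => by
      have := Group.is_simple_iff_prime_card.1 e.isSimpleGroup
      rw [Nat.card_congr e.toEquiv, S1695.result.2] at this
      exact absurd this (by norm_num)) (by
        rw [card_subgroupOf (abelian_zpowers β).cent, Nat.card_zpowers, ho]; decide) (n := n)
        (Subtype.ext (congrArg Subtype.val hn :))
    refine cj_eq_iff_comm.1 ?_
    calc _ = l⁻¹ * (t * q * t⁻¹) * l := by group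
      _ = _ := by rw [h q ⟨_, m, rfl⟩]; group
  obtain ⟨g, hg⟩ := Rl.ex π (k z H.es.zQ h1.cz)
  obtain ⟨q, hq⟩ := H.exq (e8 none)
  have m : g ∈ NN := mem_NN_cg.2 (H.stab' hq hg (k q (H.PQ hq)
    ((H.comm_fix h1 (ho ▸ by decide) hq).2 (mem_NN_cg.1 (pm_mem _)))))
  have e1 := (hg.mul h1).mul hg.inv
  rw [show l⁻¹ * t * β * (l⁻¹ * t)⁻¹ = l⁻¹ * (t * β * t⁻¹) * l by group, ht, mul_assoc,
    (mem_CB.1 (Sig.layerIn_le _ hl)).inv_left.eq, inv_mul_cancel_left] at e1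
  refine not_inv (prM ⟨g, m⟩) ?_
  have e2 : prM ⟨negC, SG_le neg_mem_SG⟩ = 1 := prM_eq_one.2 neg_mem_SG
  rw [← prM_pm T7.y7, ← map_inv, ← map_inv, ← map_mul, ← map_mul]
  rcases h1.inv.uniq e1 with e | e
  · exact congrArg prM (Subtype.ext e)
  · rw [← mul_one (prM (⟨pm T7.y7, _⟩ : NN)⁻¹), ← e2, ← map_mul]; exact congrArg prM (Subtype.ext e)

end Cfsg.Agent.MonHe
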